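/-
A presentation of the alternating group of degree seven.
-/
import Cfsg.Agent.Cov.Coset
import Mathlib.GroupTheory.GroupAction.Jordan
import Mathlib.GroupTheory.SpecificGroups.Alternating.Simple
set_option autoImplicit false
set_option maxRecDepth 100000

namespace CA.GW
open CA.TC CA.Cov Subgroup

noncomputable def a7hat : BT Nat := (.node (.node (.leaf (nat_lit 0x7231c3730445b640388176c2dab42c3c48a64cd19566b0d092889930126c9a110c4517404988860bc89f0eb8c8a3c417075ab079d0a1952b388d5a4261511b54a029442682290c40ca052114273e601a62418b9e4c0d2a43a581233c8030a4609121121501f16084043c7410c0e0c09c2e647063804d9a0a34c980e0420c2e58088062c015204850e2a00a131a249110600608203c004161c70d182c08014244070008305080c101)) (.leaf (nat_lit 0x70e9cc67f0dbc58ee5f426b19b447b05a3b8ad9e4060c98c28efd7c186c633e5b097408af563382ba23c))) (.node (.leaf (nat_lit 0x50a94be871d3bd7ea61464af933c831522b7a9a04445111ba56cd0c7768d5323e8234752c63a16e7d8288cd4fb85e9ce9e891532e8adda1d5a962223ad56243700e3276acd436671d2a306614372a619a5e6143884b4c304edcb178105b2682bd6164ad601b2cb523428f0aaa66ec9bf565593a2249f3f62e5f934e45c307c948a86ebc79078f57367a9d20f6ab5e141e95a2c1a39d3b2a71db44234d9474e06a2344c6391c78919))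 (.leaf (nat_lit 0x0))))
noncomputable def a7har (p : Nat) : Nat :=
  Nat.land (Nat.shiftRight (frc (Nat.shiftRight p (nat_lit 5)) (BT.sel a7hat)) (Nat.mul (nat_lit 42) (Nat.land p (nat_lit 31)))) (nat_lit 0x3ffffffffff)
noncomputable def a7hact (g p : Nat) : Nat := Nat.land (Nat.shiftRight (a7har p) (Nat.mul (nat_lit 7) g)) (nat_lit 127)
noncomputable def a7hut : BT Nat := (.node (.node (.leaf (nat_lit 0x700011000002e147422137a3482817700011000002e147423020984d4c146c001309844287668001308ac82896742213790554c147000110000028867422137a3494c147000110000028865423020984d47234c001309844c67348001308ac866935422137905547235000110000086835422137a34947235000110000086835422130984d4415500011000002a824c0000098442a7248000008ac82a925422130984d48525000110000084844c000009844c47448000008ac864943422130984c26133000110000026132c000009844261328000008ac82613240000000002611200000000002222000000000000000)) (.leaf (nat_lit 0xb4221479054301bb422177a348301bb4233679054301bb422147a348301bb42214790555418b422177a3495418b42336790555418b422147a3495418)))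 (.node (.leaf (nat_lit 0x942214790554f279422177a3494f27942336790554f279422147a3494f27942333790542c199423337a3482c199423020984c2c198c00e209844321688001508ac832169423020984c2c198c01140984432168800c208ac832169423337905550169423337a34950169423020984d50168c00e2098442c7888001508ac82c989423020984d50168c0114098442c788800c208ac82c98742333790554b257423337a3494b257423020984d4b256c00e209844ca7568001508ac86a957423020984d4b256c011409844ca756800c208ac86a957423020984c28176c0013098442e1468001308ac82e14742213790542817)) (.leaf (nat_lit 0x0))))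
noncomputable def a7hur (p : Nat) : Nat :=
  Nat.land (Nat.shiftRight (frc (Nat.shiftRight p (nat_lit 5)) (BT.sel a7hut)) (Nat.mul (nat_lit 60) (Nat.land p (nat_lit 31)))) (nat_lit 0xfffffffffffffff)
noncomputable def a7hrk (g p : Nat) : Nat := Nat.land (Nat.shiftRight (a7hur p) (Nat.mul (nat_lit 9) g)) (nat_lit 15)
noncomputable def a7hru (g p : Nat) : Nat := Nat.land (Nat.shiftRight (a7hur p) (Nat.add (Nat.mul (nat_lit 9) g) (nat_lit 4))) (nat_lit 31)
noncomputable def a7htg (p : Nat) : Nat := Nat.land (Nat.shiftRight (a7hur p) (nat_lit 54)) (nat_lit 7)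
noncomputable def a7hdp (p : Nat) : Nat := Nat.shiftRight (a7hur p) (nat_lit 57)
noncomputable def a7hrules : BT Rule := (.node (.node (.node (.node (.node (.leaf (.cyc (nat_lit 0) [(nat_lit 0), (nat_lit 0)] (nat_lit 0) (nat_lit 1))) (.leaf (.cyc (nat_lit 0) [(nat_lit 5), (nat_lit 0), (nat_lit 5)] (nat_lit 5) (nat_lit 1)))) (.node (.leaf (.cyc (nat_lit 1) [(nat_lit 5), (nat_lit 1), (nat_lit 5)] (nat_lit 10) (nat_lit 2))) (.leaf (.cyc (nat_lit 0) [(nat_lit 0), (nat_lit 0)] (nat_lit 0) (nat_lit 1))))) (.node (.node (.leaf (.cyc (nat_lit 1) [(nat_lit 2), (nat_lit 0), (nat_lit 3)] (nat_lit 8) (nat_lit 3))) (.leaf (.cyc (nat_lit 0) [(nat_lit 0), (nat_lit 0)] (nat_lit 0) (nat_lit 1)))) (.node (.leaf (.cyc (nat_lit 4) [(nat_lit 3), (nat_lit 4), (nat_lit 3), (nat_lit 4), (nat_lit 3)] (nat_lit 9) (nat_lit 4))) (.leaf (.cyc (nat_lit 0) [(nat_lit 0), (nat_lit 0)] (nat_lit 0) (nat_lit 1)))))) (.node (.node (.node (.leaf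 (.cyc (nat_lit 1) [(nat_lit 4), (nat_lit 0), (nat_lit 4)] (nat_lit 3) (nat_lit 2))) (.leaf (.cyc (nat_lit 0) [(nat_lit 0), (nat_lit 0)] (nat_lit 0) (nat_lit 1)))) (.node (.leaf (.cyc (nat_lit 4) [(nat_lit 2), (nat_lit 4), (nat_lit 2), (nat_lit 4), (nat_lit 2)] (nat_lit 4) (nat_lit 3))) (.leaf (.cyc (nat_lit 0) [(nat_lit 0), (nat_lit 0)] (nat_lit 0) (nat_lit 1))))) (.node (.node (.leaf (.cyc (nat_lit 0) [(nat_lit 4), (nat_lit 1), (nat_lit 4)] (nat_lit 3) (nat_lit 0))) (.leaf (.cyc (nat_lit 0) [(nat_lit 0), (nat_lit 0)] (nat_lit 0) (nat_lit 1)))) (.node (.leaf (.cyc (nat_lit 4) [(nat_lit 5), (nat_lit 4), (nat_lit 5)] (nat_lit 7) (nat_lit 3))) (.leaf (.cyc (nat_lit 0) [(nat_lit 0), (nat_lit 0)] (nat_lit 0) (nat_lit 1))))))) (.node (.node (.node (.node (.leaf (.cyc (nat_lit 1) [(nat_lit 3), (nat_lit 0), (nat_lit 2)] (nat_lit 2) (nat_lit 2))) (.leaf (.cyc (nat_lit 4) [(nat_lit 5), (nat_lit 4), (nat_lit 5)] (nat_lit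 7) (nat_lit 1)))) (.node (.leaf (.cyc (nat_lit 2) [(nat_lit 2), (nat_lit 2)] (nat_lit 1) (nat_lit 1))) (.leaf (.cyc (nat_lit 0) [(nat_lit 0), (nat_lit 0)] (nat_lit 0) (nat_lit 1))))) (.node (.node (.leaf (.cyc (nat_lit 0) [(nat_lit 2), (nat_lit 1), (nat_lit 3)] (nat_lit 2) (nat_lit 0))) (.leaf (.cyc (nat_lit 0) [(nat_lit 0), (nat_lit 0)] (nat_lit 0) (nat_lit 1)))) (.node (.leaf (.cyc (nat_lit 3) [(nat_lit 5), (nat_lit 3), (nat_lit 5)] (nat_lit 11) (nat_lit 2))) (.leaf (.cyc (nat_lit 0) [(nat_lit 0), (nat_lit 0)] (nat_lit 0) (nat_lit 1)))))) (.node (.node (.node (.leaf (.cyc (nat_lit 0) [(nat_lit 5), (nat_lit 0), (nat_lit 5)] (nat_lit 5) (nat_lit 3))) (.leaf (.cyc (nat_lit 0) [(nat_lit 0), (nat_lit 0)] (nat_lit 0) (nat_lit 1)))) (.node (.leaf (.cyc (nat_lit 2) [(nat_lit 5), (nat_lit 2), (nat_lit 5)] (nat_lit 6) (nat_lit 3))) (.leaf (.cyc (nat_lit 0) [(nat_lit 0), (nat_lit 0)] (nat_lit 0) (nat_lit 1))))) (.node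 (.node (.leaf (.cyc (nat_lit 0) [(nat_lit 3), (nat_lit 1), (nat_lit 2)] (nat_lit 8) (nat_lit 1))) (.leaf (.cyc (nat_lit 0) [(nat_lit 0), (nat_lit 0)] (nat_lit 0) (nat_lit 1)))) (.node (.leaf (.cyc (nat_lit 4) [(nat_lit 3), (nat_lit 4), (nat_lit 3), (nat_lit 4), (nat_lit 3)] (nat_lit 9) (nat_lit 2))) (.leaf (.cyc (nat_lit 0) [(nat_lit 0), (nat_lit 0)] (nat_lit 0) (nat_lit 1))))))))
def a7hrels : List (List Nat) := [[0, 0, 0], [2, 2, 2], [0, 2, 1, 3], [0, 4, 1, 4], [2, 4, 2, 4, 2, 4], [5, 0, 5, 0], [5, 2, 5, 2], [5, 4, 5, 4], [2, 0, 3, 1], [4, 3, 4, 3, 4, 3], [1, 5, 1, 5], [3, 5, 3, 5]]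
noncomputable def a7h : Cert := ⟨(nat_lit 72), (nat_lit 6), a7hact, fun g => [1, 0, 3, 2, 4, 5].getD g 0, a7htg, a7hdp, a7hrk, a7hru, a7hrules, a7hrels, []⟩
noncomputable def a7gat : BT Nat := (.node (.leaf (nat_lit 0x6a082181f7e179e71a75b6db75961b7a069669e65775d6d755e75f71479c6155d54d87577155d275955a6584156dc65651c5114d06193db5da61459a45648f34f65239058c4183933d445145650e2ca4973cb59325354b4144862ce4d22d14c930c18a21228d18d24714e2d03d139030924520d3cd2852873081c71c434a1c820420c24e14334c1442c608a2441841012071850821830c20430c5082043001101043081000000000)) (.leaf (nat_lit 0x228a18a28a27a18a07e185c7df7e1820)))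
noncomputable def a7gar (p : Nat) : Nat :=
  Nat.land (Nat.shiftRight (frc (Nat.shiftRight p (nat_lit 5)) (BT.sel a7gat)) (Nat.mul (nat_lit 42) (Nat.land p (nat_lit 31)))) (nat_lit 0x3ffffffffff)
noncomputable def a7gact (g p : Nat) : Nat := Nat.land (Nat.shiftRight (a7gar p) (Nat.mul (nat_lit 6) g)) (nat_lit 63)
noncomputable def a7gut : BT Nat := (.node (.leaf (nat_lit 0x8c088380d0260d03554c30020b9281a04498051d8320dd700c0224b832f000a2411064590604276bc3755c030089260c3c0001a044009e018109a02ea38220b8ae0b84ed237524110027605c27689b0340882e2b82623319601900017051d6045a0300c022004ec0988cc6589a000050d6758115c08c4e0002a5932a0bae04629000a22d19505d4cad3348e619a6ea822b81106800054b2000165c08830001445a0000b26045e58541304d9405918010282a098220b82888006d5c40445205c144c0882cfa826098000aa300016054130441421910000b388088a40a0ec6d730556304c1124c8334c1b680a022290c6399c000150440000015108e000d20220000019088513250c110000004c13220982a00028698260890489a40001454c110887022a18005102600000000044100044f0044e0))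 (.leaf (nat_lit 0x544f14d046cb0701c12e7022f600055164cd037181152e992a41b066a8)))
noncomputable def a7gur (p : Nat) : Nat :=
  Nat.land (Nat.shiftRight (frc (Nat.shiftRight p (nat_lit 5)) (BT.sel a7gut)) (Nat.mul (nat_lit 77) (Nat.land p (nat_lit 31)))) (nat_lit 0x1fffffffffffffffffff)
noncomputable def a7grk (g p : Nat) : Nat := Nat.land (Nat.shiftRight (a7gur p) (Nat.mul (nat_lit 10) g)) (nat_lit 15)
noncomputable def a7gru (g p : Nat) : Nat := Nat.land (Nat.shiftRight (a7gur p) (Nat.add (Nat.mul (nat_lit 10) g) (nat_lit 4))) (nat_lit 63)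
noncomputable def a7gtg (p : Nat) : Nat := Nat.land (Nat.shiftRight (a7gur p) (nat_lit 70)) (nat_lit 7)
noncomputable def a7gdp (p : Nat) : Nat := Nat.shiftRight (a7gur p) (nat_lit 73)
noncomputable def a7grules : BT Rule := (.node (.node (.node (.node (.node (.node (.leaf (.cyc (nat_lit 0) [(nat_lit 0), (nat_lit 0)] (nat_lit 0) (nat_lit 1))) (.leaf (.cyc (nat_lit 5) [(nat_lit 6), (nat_lit 4), (nat_lit 6), (nat_lit 4), (nat_lit 6), (nat_lit 4)] (nat_lit 18) (nat_lit 0)))) (.node (.leaf (.cyc (nat_lit 6) [(nat_lit 0), (nat_lit 6), (nat_lit 0), (nat_lit 6), (nat_lit 0)] (nat_lit 17) (nat_lit 4))) (.leaf (.cyc (nat_lit 0) [(nat_lit 0), (nat_lit 0)] (nat_lit 0) (nat_lit 1))))) (.node (.node (.leaf (.cyc (nat_lit 3) [(nat_lit 6), (nat_lit 2), (nat_lit 6)] (nat_lit 8) (nat_lit 2))) (.leaf (.cyc (nat_lit 0) [(nat_lit 6), (nat_lit 0), (nat_lit 6), (nat_lit 0), (nat_lit 6)] (nat_lit 17) (nat_lit 3)))) (.node (.leaf (.cyc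 (nat_lit 5) [(nat_lit 0), (nat_lit 5), (nat_lit 0)] (nat_lit 5) (nat_lit 2))) (.leaf (.cyc (nat_lit 0) [(nat_lit 0), (nat_lit 0)] (nat_lit 0) (nat_lit 1)))))) (.node (.node (.node (.leaf (.cyc (nat_lit 1) [(nat_lit 3), (nat_lit 0), (nat_lit 2)] (nat_lit 2) (nat_lit 2))) (.leaf (.cyc (nat_lit 5) [(nat_lit 1), (nat_lit 5), (nat_lit 1)] (nat_lit 15) (nat_lit 3)))) (.node (.leaf (.cyc (nat_lit 4) [(nat_lit 3), (nat_lit 4), (nat_lit 3), (nat_lit 4), (nat_lit 3)] (nat_lit 14) (nat_lit 4))) (.leaf (.cyc (nat_lit 0) [(nat_lit 0), (nat_lit 0)] (nat_lit 0) (nat_lit 1))))) (.node (.node (.leaf (.pin (nat_lit 0) (nat_lit 0) [] [] (nat_lit 0) (nat_lit 0))) (.leaf (.cyc (nat_lit 0) [(nat_lit 0), (nat_lit 0)] (nat_lit 0) (nat_lit 1)))) (.node (.leaf (.cyc (nat_lit 5) [(nat_lit 6), (nat_lit 5), (nat_lit 6)] (nat_lit 10) (nat_lit 2))) (.leaf (.cyc (nat_lit 0) [(nat_lit 0), (nat_lit 0)] (nat_lit 0) (nat_lit 1))))))) (.node (.node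 (.node (.node (.leaf (.cyc (nat_lit 0) [(nat_lit 4), (nat_lit 1), (nat_lit 4)] (nat_lit 3) (nat_lit 0))) (.leaf (.cyc (nat_lit 4) [(nat_lit 1), (nat_lit 4), (nat_lit 0)] (nat_lit 3) (nat_lit 1)))) (.node (.leaf (.cyc (nat_lit 5) [(nat_lit 4), (nat_lit 6), (nat_lit 4), (nat_lit 6), (nat_lit 4), (nat_lit 6)] (nat_lit 11) (nat_lit 6))) (.leaf (.cyc (nat_lit 0) [(nat_lit 0), (nat_lit 0)] (nat_lit 0) (nat_lit 1))))) (.node (.node (.leaf (.cyc (nat_lit 3) [(nat_lit 0), (nat_lit 2), (nat_lit 1)] (nat_lit 2) (nat_lit 3))) (.leaf (.cyc (nat_lit 3) [(nat_lit 4), (nat_lit 3), (nat_lit 4), (nat_lit 3), (nat_lit 4)] (nat_lit 14) (nat_lit 5)))) (.node (.leaf (.cyc (nat_lit 4) [(nat_lit 2), (nat_lit 4), (nat_lit 2), (nat_lit 4), (nat_lit 2)] (nat_lit 4) (nat_lit 3))) (.leaf (.cyc (nat_lit 0) [(nat_lit 0), (nat_lit 0)] (nat_lit 0) (nat_lit 1)))))) (.node (.node (.node (.leaf (.cyc (nat_lit 0) [(nat_lit 2), (nat_lit 1), (nat_lit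 3)] (nat_lit 2) (nat_lit 0))) (.leaf (.cyc (nat_lit 5) [(nat_lit 4), (nat_lit 5), (nat_lit 4)] (nat_lit 7) (nat_lit 2)))) (.node (.leaf (.cyc (nat_lit 6) [(nat_lit 3), (nat_lit 6), (nat_lit 2)] (nat_lit 8) (nat_lit 1))) (.leaf (.cyc (nat_lit 0) [(nat_lit 0), (nat_lit 0)] (nat_lit 0) (nat_lit 1))))) (.node (.node (.leaf (.pin (nat_lit 4) (nat_lit 0) [] [] (nat_lit 0) (nat_lit 4))) (.leaf (.cyc (nat_lit 0) [(nat_lit 0), (nat_lit 0)] (nat_lit 0) (nat_lit 1)))) (.node (.leaf (.cyc (nat_lit 5) [(nat_lit 3), (nat_lit 5), (nat_lit 3)] (nat_lit 16) (nat_lit 3))) (.leaf (.cyc (nat_lit 0) [(nat_lit 0), (nat_lit 0)] (nat_lit 0) (nat_lit 1)))))))) (.node (.node (.node (.node (.node (.leaf (.cyc (nat_lit 1) [(nat_lit 4), (nat_lit 0), (nat_lit 4)] (nat_lit 3) (nat_lit 2))) (.leaf (.cyc (nat_lit 6) [(nat_lit 4), (nat_lit 6), (nat_lit 4), (nat_lit 5), (nat_lit 6), (nat_lit 4)] (nat_lit 18) (nat_lit 3)))) (.node (.leaf (.cyc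 (nat_lit 6) [(nat_lit 4), (nat_lit 6), (nat_lit 5), (nat_lit 4), (nat_lit 6), (nat_lit 4)] (nat_lit 11) (nat_lit 3))) (.leaf (.cyc (nat_lit 0) [(nat_lit 0), (nat_lit 0)] (nat_lit 0) (nat_lit 1))))) (.node (.node (.leaf (.cyc (nat_lit 2) [(nat_lit 6), (nat_lit 3), (nat_lit 6)] (nat_lit 8) (nat_lit 0))) (.leaf (.cyc (nat_lit 4) [(nat_lit 2), (nat_lit 4), (nat_lit 2), (nat_lit 4), (nat_lit 2)] (nat_lit 4) (nat_lit 1)))) (.node (.leaf (.cyc (nat_lit 5) [(nat_lit 2), (nat_lit 5), (nat_lit 2)] (nat_lit 6) (nat_lit 2))) (.leaf (.cyc (nat_lit 0) [(nat_lit 0), (nat_lit 0)] (nat_lit 0) (nat_lit 1)))))) (.node (.node (.node (.leaf (.cyc (nat_lit 0) [(nat_lit 3), (nat_lit 1), (nat_lit 2)] (nat_lit 13) (nat_lit 1))) (.leaf (.cyc (nat_lit 2) [(nat_lit 4), (nat_lit 2), (nat_lit 4), (nat_lit 2), (nat_lit 4)] (nat_lit 4) (nat_lit 4)))) (.node (.leaf (.cyc (nat_lit 6) [(nat_lit 2), (nat_lit 6), (nat_lit 3)] (nat_lit 8) (nat_lit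 3))) (.leaf (.cyc (nat_lit 0) [(nat_lit 0), (nat_lit 0)] (nat_lit 0) (nat_lit 1))))) (.node (.node (.leaf (.pin (nat_lit 2) (nat_lit 0) [] [] (nat_lit 0) (nat_lit 2))) (.leaf (.cyc (nat_lit 0) [(nat_lit 0), (nat_lit 0)] (nat_lit 0) (nat_lit 1)))) (.node (.leaf (.cyc (nat_lit 4) [(nat_lit 6), (nat_lit 5), (nat_lit 4), (nat_lit 6), (nat_lit 4), (nat_lit 6)] (nat_lit 11) (nat_lit 4))) (.leaf (.cyc (nat_lit 0) [(nat_lit 0), (nat_lit 0)] (nat_lit 0) (nat_lit 1))))))) (.node (.node (.node (.node (.leaf (.cyc (nat_lit 2) [(nat_lit 2), (nat_lit 2)] (nat_lit 1) (nat_lit 1))) (.leaf (.cyc (nat_lit 6) [(nat_lit 1), (nat_lit 6), (nat_lit 1), (nat_lit 6), (nat_lit 1)] (nat_lit 9) (nat_lit 5)))) (.node (.leaf (.cyc (nat_lit 2) [(nat_lit 1), (nat_lit 3), (nat_lit 0)] (nat_lit 2) (nat_lit 1))) (.leaf (.cyc (nat_lit 0) [(nat_lit 0), (nat_lit 0)] (nat_lit 0) (nat_lit 1))))) (.node (.node (.leaf (.cyc (nat_lit 2) [(nat_lit 0),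 (nat_lit 3), (nat_lit 1)] (nat_lit 13) (nat_lit 0))) (.leaf (.cyc (nat_lit 0) [(nat_lit 0), (nat_lit 0)] (nat_lit 0) (nat_lit 1)))) (.node (.leaf (.cyc (nat_lit 1) [(nat_lit 1), (nat_lit 1)] (nat_lit 12) (nat_lit 2))) (.leaf (.cyc (nat_lit 0) [(nat_lit 0), (nat_lit 0)] (nat_lit 0) (nat_lit 1)))))) (.node (.node (.node (.leaf (.cyc (nat_lit 1) [(nat_lit 2), (nat_lit 0), (nat_lit 3)] (nat_lit 13) (nat_lit 3))) (.leaf (.cyc (nat_lit 4) [(nat_lit 6), (nat_lit 4), (nat_lit 6), (nat_lit 5), (nat_lit 4), (nat_lit 6)] (nat_lit 11) (nat_lit 2)))) (.node (.leaf (.cyc (nat_lit 1) [(nat_lit 6), (nat_lit 1), (nat_lit 6), (nat_lit 1), (nat_lit 6)] (nat_lit 9) (nat_lit 4))) (.leaf (.cyc (nat_lit 0) [(nat_lit 0), (nat_lit 0)] (nat_lit 0) (nat_lit 1))))) (.node (.node (.leaf (.pin (nat_lit 5) (nat_lit 0) [] [] (nat_lit 0) (nat_lit 5))) (.leaf (.cyc (nat_lit 0) [(nat_lit 0), (nat_lit 0)] (nat_lit 0) (nat_lit 1)))) (.node (.leaf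 (.cyc (nat_lit 4) [(nat_lit 6), (nat_lit 4), (nat_lit 6), (nat_lit 4), (nat_lit 5), (nat_lit 6)] (nat_lit 18) (nat_lit 2))) (.leaf (.cyc (nat_lit 0) [(nat_lit 0), (nat_lit 0)] (nat_lit 0) (nat_lit 1)))))))))
def a7grels : List (List Nat) := [[0, 0, 0], [2, 2, 2], [0, 2, 1, 3], [0, 4, 1, 4], [2, 4, 2, 4, 2, 4], [5, 0, 5, 0], [5, 2, 5, 2], [5, 4, 5, 4], [2, 6, 3, 6], [1, 6, 1, 6, 1, 6], [5, 6, 5, 6], [4, 6, 4, 6, 4, 6, 5], [1, 1, 1], [2, 0, 3, 1], [4, 3, 4, 3, 4, 3], [1, 5, 1, 5], [3, 5, 3, 5], [6, 0, 6, 0, 6, 0], [5, 6, 4, 6, 4, 6, 4]]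
noncomputable def a7g : Cert := ⟨(nat_lit 35), (nat_lit 7), a7gact, fun g => [1, 0, 3, 2, 4, 5, 6].getD g 0, a7gtg, a7gdp, a7grk, a7gru, a7grules, a7grels, [(0, [0], 0), (0, [1], 0), (0, [2], 0), (0, [3], 0), (0, [4], 0), (0, [5], 0)]⟩

theorem a7h_c : allLt 72 a7h.chk = true := by decide +kernel
theorem a7g_c : allLt 35 a7g.chk = true := by decide +kernel

/-- The defining relators. -/
def a7B : List (List ℕ) := [[0, 0, 0], [2, 2, 2], [4, 4], [5, 5], [0, 2, 1, 3], [0, 4, 1, 4], [2, 4, 2, 4, 2, 4],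
  [5, 0, 5, 0], [5, 2, 5, 2], [5, 4, 5, 4], [6, 6], [2, 6, 3, 6], [1, 6, 1, 6, 1, 6], [5, 6, 5, 6],
  [4, 6, 4, 6, 4, 6, 5]]

def a7i (g : ℕ) : ℕ := [1, 0, 3, 2, 4, 5, 6].getD g 0

theorem a7_card {X : Type*} [Group X] (s : ℕ → X) (hi : ∀ g < 7, s (a7i g) = (s g)⁻¹) (hr : ∀ r ∈ a7B, wd s r = 1) :
    Finite (closure (s '' Set.Iio 7)) ∧ Nat.card (closure (s '' Set.Iio 7)) ≤ 2520 := by
  have h1 : ∀ r : List ℕ, (∀ g ∈ r, g < 7) → wd s (r.map a7i).reverse = (wd s r)⁻¹ := fun r h => by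
    induction r with
    | nil => simp
    | cons g r ih =>
      rw [List.map_cons, List.reverse_cons, wd_append, ih fun a ha => h a (List.mem_cons_of_mem _ ha), wd_cons, wd_cons,
        wd_nil, mul_one, mul_inv_rev, hi g (h g List.mem_cons_self)]
  have h2 : ∀ r, (r ∈ a7B ∨ ∃ r' ∈ a7B, (∀ g ∈ r', g < 7) ∧ r = (r'.map a7i).reverse) → wd s r = 1 := by
    rintro r (h | ⟨r, h, h', rfl⟩)
    · exact hr r h
    · rw [h1 r h', hr r h, inv_one]
  obtain ⟨f1, c1⟩ := card_le_of_cert a7h s ⊥ (m := 72) (z := []) (fun g hg => by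
      have hg : g < 6 := hg
      rw [← hi g (by omega)]; interval_cases g <;> rfl)
    (fun r hr => h2 r (by revert r; decide +kernel)) (fun t ht => by cases ht) (one_mem _) (by decide +kernel)
    (allLt_spec a7h_c) (by decide +kernel) (Or.inl rfl)
  obtain ⟨f2, c2⟩ := card_le_of_cert a7g s (closure (s '' Set.Iio a7h.ng)) (m := 35) (z := []) hi
    (fun r hr => h2 r (by revert r; decide +kernel)) (fun t ht => wd_mem fun g hg => subset_closure ⟨g, by
      have : ∀ t ∈ a7g.pins, ∀ g ∈ t.2.1, g < 6 := by decide +kernel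
      exact this t ht g hg, rfl⟩) (one_mem _) (by decide +kernel)
    (allLt_spec a7g_c) (by decide +kernel) (Or.inl rfl)
  rw [card_bot] at c1
  exact ⟨f2, c2.trans (by omega)⟩

def a7p (g : ℕ) : Equiv.Perm (Fin 7) :=
  [c[4, 5, 6], c[4, 6, 5], c[0, 2, 1], c[0, 1, 2], c[0, 1] * c[2, 3], c[0, 1] * c[4, 5], c[4, 5] * c[3, 6]].getD g 1

theorem a7_equiv {G : Type*} [Group G] [Finite G] (hc : Nat.card G = 2520) (s : ℕ → G)
    (hi : ∀ g < 7, s (a7i g) = (s g)⁻¹) (hr : ∀ r ∈ a7B, wd s r = 1) (h0 : s 0 ≠ 1) :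
    Nonempty (G ≃* alternatingGroup (Fin 7)) := by
  let z : ℕ → G × Equiv.Perm (Fin 7) := fun g => (s g, a7p g)
  have w1 : ∀ r, wd z r = (wd s r, wd a7p r) := fun r => by
    induction r with
    | nil => rfl
    | cons g r ih => rw [wd_cons, wd_cons, wd_cons, ih]; rfl
  obtain ⟨f1, c1⟩ := a7_card z (fun g hg => Prod.ext (hi g hg) (by
      show a7p (a7i g) = (a7p g)⁻¹
      revert g; decide +kernel))
    fun r h => by rw [w1, hr r h, show wd a7p r = 1 by revert r; decide +kernel]; rfl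
  set L := closure (z '' Set.Iio 7)
  let φ : L →* Equiv.Perm (Fin 7) := (MonoidHom.snd _ _).comp L.subtype
  have hm : ∀ r : List ℕ, (∀ g ∈ r, g < 7) → wd z r ∈ L := fun r h => wd_mem fun g hg => subset_closure ⟨g, h g hg, rfl⟩
  have hm' : ∀ r : List ℕ, (∀ g ∈ r, g < 7) → wd a7p r ∈ φ.range := fun r h =>
    ⟨⟨_, hm r h⟩, congrArg Prod.snd (w1 r)⟩
  have ht : MulAction.IsPretransitive φ.range (Fin 7) := by
    refine (MulAction.isPretransitive_iff_base 3).2 fun x => ?_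
    have : ∀ x : Fin 7, ∃ r ∈ [[], [4], [2, 4], [3, 4], [6], [0, 6], [1, 6]], (∀ g ∈ r, g < 7) ∧ wd a7p r 3 = x := by
      decide +kernel
    obtain ⟨r, -, h1, h2⟩ := this x
    exact ⟨⟨_, hm' r h1⟩, h2⟩
  have h3 := Equiv.Perm.alternatingGroup_le_of_isPreprimitive_of_isThreeCycle_mem
    (MulAction.IsPreprimitive.of_prime_card (G := φ.range) (X := Fin 7) (by simp; norm_num))
    (g := wd a7p [0]) (by rw [← card_support_eq_three_iff]; decide +kernel) (hm' [0] (by simp))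
  have hA : Nat.card (alternatingGroup (Fin 7)) = 2520 := by
    have := two_mul_nat_card_alternatingGroup (α := Fin 7)
    rw [Nat.card_perm, Nat.card_fin, show Nat.factorial 7 = 5040 from rfl] at this
    omega
  have h4 := card_le_of_le h3
  have h5 := φ.ker.card_mul_index
  rw [index_ker] at h5
  have h6 : φ.ker = ⊥ := card_eq_one.1 (by
    have := Nat.card_pos (α := φ.ker)
    nlinarith)
  have h7 : alternatingGroup (Fin 7) = φ.range := eq_of_le_of_card_ge h3 (by rw [h6, card_bot] at h5; omega)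
  let ψ : alternatingGroup (Fin 7) →* G := ((MonoidHom.fst _ _).comp L.subtype).comp
    ((MulEquiv.subgroupCongr h7).trans (MonoidHom.ofInjective ((MonoidHom.ker_eq_bot_iff φ).1 h6)).symm).toMonoidHom
  have := alternatingGroup.isSimpleGroup (α := Fin 7) (by simp)
  have h8 : ψ.ker = ⊥ := (inferInstance : ψ.ker.Normal).eq_bot_or_eq_top.resolve_right fun e => h0 (by
    have := e.ge (mem_top ((MulEquiv.subgroupCongr h7).symm
      (MonoidHom.ofInjective ((MonoidHom.ker_eq_bot_iff φ).1 h6) ⟨_, hm [0] (by simp)⟩)))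
    simpa [ψ, w1] using this)
  exact ⟨(MulEquiv.ofBijective ψ ((Nat.bijective_iff_injective_and_card ψ).2
    ⟨(MonoidHom.ker_eq_bot_iff ψ).1 h8, hA.trans hc.symm⟩)).symm⟩

theorem a7_of_index {G : Type*} [Group G] [Finite G] [IsSimpleGroup G] (hc : Nat.card G = 2520) {H : Subgroup G}
    (h1 : H ≠ ⊤) (h7 : H.index ≤ 7) : Nonempty (G ≃* alternatingGroup (Fin 7)) := by
  have h2 : (MulAction.toPermHom G (G ⧸ H)).ker = ⊥ := by
    rw [← normalCore_eq_ker]
    exact (inferInstance : H.normalCore.Normal).eq_bot_or_eq_top.resolve_right fun e =>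
      h1 (top_le_iff.1 (e.ge.trans (normalCore_le H)))
  have h3 := (MonoidHom.ker_eq_bot_iff _).1 h2
  have h4 : H.index = 7 := by
    have := Nat.card_le_card_of_injective _ h3
    rw [hc, Nat.card_perm, ← index_eq_card] at this
    by_contra h
    have := this.trans (Nat.factorial_le (show H.index ≤ 6 by omega))
    norm_num [Nat.factorial] at this
  let e : G ⧸ H ≃ Fin 7 := Finite.equivFinOfCardEq h4
  let φ : G →* Equiv.Perm (Fin 7) := e.permCongrHom.toMonoidHom.comp (MulAction.toPermHom G (G ⧸ H))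
  have h5 : Function.Injective φ := e.permCongrHom.injective.comp h3
  have h6 := φ.range.card_mul_index
  rw [← Nat.card_congr (MonoidHom.ofInjective h5).toEquiv, hc, Nat.card_perm, Nat.card_fin,
    show Nat.factorial 7 = 5040 from rfl] at h6
  exact ⟨(MonoidHom.ofInjective h5).trans
    (MulEquiv.subgroupCongr (Equiv.Perm.eq_alternatingGroup_of_index_eq_two (by omega)))⟩

end CA.GW

theorem CA.realizeEqns_GW_A7a : True := by
  have := @CA.GW.a7gur.eq_1
  have := @CA.GW.a7gur.eq_def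
  have := @CA.GW.a7gur.congr_simp
  have := @CA.GW.a7grels.eq_1
  have := @CA.GW.a7grels.eq_def
  have := @CA.GW.a7grels.congr_simp
  have := @CA.GW.a7gdp.eq_1
  have := @CA.GW.a7gdp.eq_def
  have := @CA.GW.a7gdp.congr_simp
  have := @CA.GW.a7grules.eq_1
  have := @CA.GW.a7grules.eq_def
  have := @CA.GW.a7grules.congr_simp
  have := @CA.GW.a7gru.eq_1
  have := @CA.GW.a7gru.eq_def
  have := @CA.GW.a7gru.congr_simp
  have := @CA.GW.a7B.eq_1
  have := @CA.GW.a7B.eq_def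
  have := @CA.GW.a7B.congr_simp
  have := @CA.GW.a7har.eq_1
  have := @CA.GW.a7har.eq_def
  have := @CA.GW.a7har.congr_simp
  have := @CA.GW.a7hur.eq_1
  have := @CA.GW.a7hur.eq_def
  have := @CA.GW.a7hur.congr_simp
  have := @CA.GW.a7hrels.eq_1
  have := @CA.GW.a7hrels.eq_def
  have := @CA.GW.a7hrels.congr_simp
  have := @CA.GW.a7gar.eq_1
  have := @CA.GW.a7gar.eq_def
  have := @CA.GW.a7gar.congr_simp
  have := @CA.GW.a7gtg.eq_1
  have := @CA.GW.a7gtg.eq_def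
  have := @CA.GW.a7gtg.congr_simp
  have := @CA.GW.a7g.eq_1
  have := @CA.GW.a7g.eq_def
  have := @CA.GW.a7g.congr_simp
  have := @CA.GW.a7i.eq_1
  have := @CA.GW.a7i.eq_def
  have := @CA.GW.a7i.congr_simp
  have := @CA.GW.a7hrk.eq_1
  have := @CA.GW.a7hrk.eq_def
  have := @CA.GW.a7hrk.congr_simp
  have := @CA.GW.a7hdp.eq_1
  have := @CA.GW.a7hdp.eq_def
  have := @CA.GW.a7hdp.congr_simp
  have := @CA.GW.a7hrules.eq_1
  have := @CA.GW.a7hrules.eq_def
  have := @CA.GW.a7hrules.congr_simp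
  have := @CA.GW.a7gat.eq_1
  have := @CA.GW.a7gat.eq_def
  have := @CA.GW.a7gat.congr_simp
  have := @CA.GW.a7hut.eq_1
  have := @CA.GW.a7hut.eq_def
  have := @CA.GW.a7hut.congr_simp
  have := @CA.GW.a7hact.eq_1
  have := @CA.GW.a7hact.eq_def
  have := @CA.GW.a7hact.congr_simp
  have := @CA.GW.a7hru.eq_1
  have := @CA.GW.a7hru.eq_def
  have := @CA.GW.a7hru.congr_simp
  have := @CA.GW.a7p.eq_1
  have := @CA.GW.a7p.eq_def
  have := @CA.GW.a7p.congr_simp
  have := @CA.GW.a7htg.eq_1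
  have := @CA.GW.a7htg.eq_def
  have := @CA.GW.a7htg.congr_simp
  have := @CA.GW.a7gut.eq_1
  have := @CA.GW.a7gut.eq_def
  have := @CA.GW.a7gut.congr_simp
  have := @CA.GW.a7hat.eq_1
  have := @CA.GW.a7hat.eq_def
  have := @CA.GW.a7hat.congr_simp
  have := @CA.GW.a7gact.eq_1
  have := @CA.GW.a7gact.eq_def
  have := @CA.GW.a7gact.congr_simp
  have := @CA.GW.a7h.eq_1
  have := @CA.GW.a7h.eq_def
  have := @CA.GW.a7h.congr_simp
  have := @CA.GW.a7grk.eq_1
  have := @CA.GW.a7grk.eq_def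
  have := @CA.GW.a7grk.congr_simp
  trivial
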